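import Cfsg.Agent.CpAutTits.Known
import Cfsg.Agent.LThree.Red
import Cfsg.Agent.S0494
import Cfsg.Agent.CpAutCoFive.Core
import Cfsg.Agent.PreUniqCo.FiveCo
import Cfsg.Agent.Schreier.CoTwoStab
import Cfsg.Agent.SporRec.Co3.Model
import Cfsg.Agent.Prune
set_option linter.all false
prune_inst 0x7f00000000000000000000000000000000000000000000000000000000000000000000000000000000000000000000000000000000000000000000000000000000000000000000000000000000000000003fffffffffffffffffffffffffffbeffbdffffffff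
open scoped Cfsg.Agent.FastGrp

-- part: CpAutCoFive/Ord
section
/-!
# Groups of order dividing `2 ^ 18 * 3 * 5 ^ 3` with a central element of order five

The only components of `H / O_{5'}(H)` are covers of the alternating group of degree five.
-/

set_option autoImplicit false

namespace Cfsg.Agent.CpAutCoFive

open Cfsg Subgroup
open Cfsg.Agent.LThree (Comps)
open Cfsg.Agent.OrdDiv

universe u

theorem ord_sixty : ∀ g ∈ cands [(2, 18), (3, 1), (5, 2)] (2 ^ 18 * 3 * 5 ^ 2), ordN g = 60 := by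
  have h : (cands [(2, 18), (3, 1), (5, 2)] (2 ^ 18 * 3 * 5 ^ 2)).map ordN = [60, 60, 60] := by decide +kernel
  intro g hg
  have h1 : ordN g ∈ (cands [(2, 18), (3, 1), (5, 2)] (2 ^ 18 * 3 * 5 ^ 2)).map ordN := List.mem_map_of_mem hg
  rw [h] at h1
  simpa using h1

theorem comps_of_dvd (T : OrderTable.{u}) (hS : CpAut.AllKnown.{u}) {H : Type u} [Group H] [Finite H] {x : H}
    (hx : orderOf x = 5) (hxc : x ∈ center H) (hd : Nat.card H ∣ 2 ^ 18 * 3 * 5 ^ 3) : Comps 5 H := by
  have hn := Lib.Cores.pPrimeCore_normal (G := H) 5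
  have hp : Nat.Prime 5 := by norm_num
  intro K hK
  have hs : IsSimpleGroup (↥K ⧸ center ↥K) := hK.2.2
  have h1 : Nat.card (↥K ⧸ center ↥K) ∣ 2 ^ 18 * 3 * 5 ^ 2 := by
    have h2 := (CpAutTits.Known.card_quot_mul_dvd hp hx hxc K).trans hd
    have h3 : 2 ^ 18 * 3 * 5 ^ 3 = 2 ^ 18 * 3 * 5 ^ 2 * 5 := by norm_num
    rw [h3] at h2
    exact Nat.dvd_of_mul_dvd_mul_right hp.pos h2
  obtain ⟨g, hg, -, hc⟩ := exists_good T (hS (↥K ⧸ center ↥K)) (CpAutTits.Known.quo_not_comm hK.2)
    (l := [(2, 18), (3, 1), (5, 2)]) (by decide +kernel) h1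
  have h6 : Nat.card (↥K ⧸ center ↥K) = 60 := hc.trans (ord_sixty g hg)
  have hb : pPrimeCore 5 (H ⧸ pPrimeCore 5 H) = ⊥ := Lib.Cores.pPrimeCore_quotient_pPrimeCore 5
  refine ⟨hK.2, LThree.Red.isPGroup_center_comp hp hb hK.1, Or.inr (Or.inl ?_), ?_⟩
  · exact ⟨5, Or.inl rfl, Cfsg.Agent.S0494.result h6⟩
  · rintro (⟨h, -⟩ | ⟨h, -⟩)
    · norm_num at h
    · norm_num at h

end Cfsg.Agent.CpAutCoFive
end

-- part: CpAutCoFive/Comps
section
/-!
# Centralizers of the elements of order five of `Co2` and `Co3`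

`F : PreUniqCo.LatCo.Facts` : the facts on the elements of order three of `Co0`.
* `comps_of_fix` : groups of automorphisms of the lattice with a nonzero fixed vector;
* `comps_co2`, `comps_co3` : all components of `C(x) / O_{5'}(C(x))` are `C_5`-groups, `x` of order five.
-/

set_option autoImplicit false

namespace Cfsg.Agent.CpAutCoFive

open Cfsg Cfsg.Spor Subgroup
open Cfsg.Agent.LThree (Comps)
open Cfsg.Agent.OrdDiv (OrderTable)
open Cfsg.Agent.PreUniqCo.LatCo (Facts)

theorem comps_of_fix (F : Facts) (T : OrderTable.{0}) (hS : CpAut.AllKnown.{0}) {X : Type} [Group X] [Finite X]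
    {φ : X →* Co0} (hφ : Function.Injective φ) {v : leechLattice} (hv : v ≠ 0) (hfix : ∀ h, φ h • v = v) {a b : ℕ}
    (ha : a ≤ 18) (hd : Nat.card X ∣ 2 ^ a * 3 ^ b * 5 ^ 3 * 7 * 11 * 23) {x : X} (hx : orderOf x = 5) :
    Comps 5 ↥(centralizer ({x} : Set X)) := by
  have hmem : x ∈ centralizer ({x} : Set X) := mem_centralizer_singleton_iff.2 rfl
  obtain ⟨y, hy⟩ : ∃ y : ↥(centralizer ({x} : Set X)), (y : X) = x := ⟨⟨x, hmem⟩, rfl⟩
  have hoy : orderOf y = 5 := by rw [← Subgroup.orderOf_coe, hy, hx]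
  have hc : ∀ g : ↥(centralizer ({x} : Set X)), g * y = y * g := fun g => by
    apply Subtype.ext
    rw [coe_mul, coe_mul, hy]
    exact mem_centralizer_singleton_iff.1 g.2
  have h1 : Nat.card ↥(centralizer ({x} : Set X)) ∣ 2 ^ a * 3 * 5 ^ 3 :=
    card_dvd F (φ := φ.comp (centralizer ({x} : Set X)).subtype) (hφ.comp Subtype.val_injective) hv
      (fun h => hfix h) hoy hc ((card_subgroup_dvd_card _).trans hd)
  refine comps_of_dvd T hS hoy (mem_center_iff.2 hc) (h1.trans ?_)
  exact mul_dvd_mul_right (mul_dvd_mul_right (pow_dvd_pow 2 ha) 3) (5 ^ 3)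

theorem finite_co3 : Finite Co3 :=
  Nat.finite_of_card_ne_zero (by
    rw [← Nat.card_congr SporRec.Co3.Model.equivCo3.toEquiv, SporRec.Co3.Chain.isCo3_G3.2]; norm_num)

theorem comps_co2 (F : Facts) (T : OrderTable.{0}) (hS : CpAut.AllKnown.{0}) (x : Co2) (hx : orderOf x = 5) :
    Comps 5 ↥(centralizer ({x} : Set Co2)) := by
  have := Schreier.CoTwoStab.finite
  let φ : Co2 →* Co0 := Subgroup.inclusion (inf_le_left : Co2 ≤ Co0)
  have hφ : Function.Injective φ := Subgroup.inclusion_injective _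
  refine comps_of_fix F T hS hφ PreUniqCo.Rows.leechU_ne (fun x => x.2.2) (a := 18) (b := 6) le_rfl ?_ hx
  rw [Schreier.CoTwoStab.card]
  exact dvd_of_eq (by norm_num)

theorem comps_co3 (F : Facts) (T : OrderTable.{0}) (hS : CpAut.AllKnown.{0}) (x : Co3) (hx : orderOf x = 5) :
    Comps 5 ↥(centralizer ({x} : Set Co3)) := by
  have := finite_co3
  let φ : Co3 →* Co0 := Subgroup.inclusion (inf_le_left : Co3 ≤ Co0)
  have hφ : Function.Injective φ := Subgroup.inclusion_injective _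
  refine comps_of_fix F T hS hφ PreUniqCo.Rows.leechV_ne (fun x => x.2.2) (a := 10) (b := 7) (by norm_num) ?_ hx
  rw [← Nat.card_congr SporRec.Co3.Model.equivCo3.toEquiv, SporRec.Co3.Chain.isCo3_G3.2]
  exact dvd_of_eq (by norm_num)

end Cfsg.Agent.CpAutCoFive
end
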